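import Cfsg.Agent.Lib.M22R.D0

/-! Facts in the model (generated data, helper23). -/

set_option autoImplicit false
set_option maxRecDepth 1000000
set_option maxHeartbeats 0

namespace Cfsg.Lib.M22R

open Cfsg.Lib.Calc Cfsg.Lib.Grp Cfsg.Lib.T2 Cfsg.Lib.T3

theorem m_aut : ∀ b ∈ genW mm.gam (mm.ws 7), b ^ 4 = 1 → b ^ 2 ≠ 1 → (mm.gam 8 * b) ^ 5 = 1 → ∃ e ∈ genW mm.gam (mm.ws 24), e * (mm.gam 3 * (mm.gam 6 * mm.gam 9 * mm.gam 6)) = b * e ∧ True :=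
  mm_ok.holds (φ := .all 7 40 [] (.imp (.one (.pow (.l 40) 4)) (.imp (.not (.one (.pow (.l 40) 2))) (.imp (.one (.pow (.mul (.l 8) (.l 40)) 5)) (.ex 24 41 [(.mul (.l 3) (.mul (.mul (.l 6) (.l 9)) (.l 6)), .l 40)] (.tt)))))) (by decide +kernel)

theorem m_cen : ∀ e ∈ genW mm.gam (mm.ws 8), e * mm.gam 8 = mm.gam 8 * e → e * (mm.gam 3 * (mm.gam 6 * mm.gam 9 * mm.gam 6)) = mm.gam 3 * (mm.gam 6 * mm.gam 9 * mm.gam 6) * e → e = 1 :=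
  mm_ok.holds (φ := .all 8 40 [(.l 8, .l 8), (.mul (.l 3) (.mul (.mul (.l 6) (.l 9)) (.l 6)), .mul (.l 3) (.mul (.mul (.l 6) (.l 9)) (.l 6)))] (.one (.l 40))) (by decide +kernel)

theorem m_t : ∀ e ∈ genW mm.gam (mm.ws 25), e * mm.gam 5 * e⁻¹ ∈ genW mm.gam (mm.ws 6) → e * e ∈ genW mm.gam (mm.ws 6) → e * mm.gam 1 = mm.gam 1 * e ∧ e * mm.gam 2 = mm.gam 2 * e ∧ e * mm.gam 3 = mm.gam 3 * e ∧ e * mm.gam 4 = mm.gam 4 * e ∨ (∃ k ∈ genW mm.gam (mm.ws 23), k * e * k⁻¹ * mm.gam 7 ∈ genW mm.gam (mm.ws 6)) :=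
  mm_ok.holds (φ := .all 25 40 [] (.imp (.mem 6 (.mul (.mul (.l 40) (.l 5)) (.inv (.l 40)))) (.imp (.mem 6 (.mul (.l 40) (.l 40))) (.or (.and (.eq (.mul (.l 40) (.l 1)) (.mul (.l 1) (.l 40))) (.and (.eq (.mul (.l 40) (.l 2)) (.mul (.l 2) (.l 40))) (.and (.eq (.mul (.l 40) (.l 3)) (.mul (.l 3) (.l 40))) (.eq (.mul (.l 40) (.l 4)) (.mul (.l 4) (.l 40)))))) (.ex 23 41 [] (.mem 6 (.mul (.mul (.mul (.l 41) (.l 40)) (.inv (.l 41))) (.l 7)))))))) (by decide +kernel)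

theorem m_a2 : ∀ a ∈ genW mm.gam (mm.ws 2), a ≠ 1 ∧ a ≠ mm.gam 1 → ∃ e ∈ genW mm.gam (mm.ws 10), e * mm.gam 2 = a * e ∧ True :=
  mm_ok.holds (φ := .all 2 40 [] (.imp (.and (.not (.one (.l 40))) (.not (.eq (.l 40) (.l 1)))) (.ex 10 41 [(.l 2, .l 40)] (.tt)))) (by decide +kernel)

theorem m_a3 : ∀ a ∈ genW mm.gam (mm.ws 2), a ≠ 1 ∧ a ≠ mm.gam 1 ∧ a ≠ mm.gam 2 ∧ a ≠ mm.gam 1 * mm.gam 2 → ∃ e ∈ genW mm.gam (mm.ws 10), e * mm.gam 2 = mm.gam 2 * e ∧ e * mm.gam 5 = a * e ∧ True :=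
  mm_ok.holds (φ := .all 2 40 [] (.imp (.and (.not (.one (.l 40))) (.and (.not (.eq (.l 40) (.l 1))) (.and (.not (.eq (.l 40) (.l 2))) (.not (.eq (.l 40) (.mul (.l 1) (.l 2))))))) (.ex 10 41 [(.l 2, .l 2), (.l 5, .l 40)] (.tt)))) (by decide +kernel)

theorem m_a4 : ∀ a ∈ genW mm.gam (mm.ws 2), a ≠ 1 ∧ a ≠ mm.gam 1 ∧ a ≠ mm.gam 2 ∧ a ≠ mm.gam 1 * mm.gam 2 ∧ a ≠ mm.gam 5 ∧ a ≠ mm.gam 1 * mm.gam 5 ∧ a ≠ mm.gam 2 * mm.gam 5 ∧ a ≠ mm.gam 1 * mm.gam 2 * mm.gam 5 → ∃ e ∈ genW mm.gam (mm.ws 10), e * mm.gam 2 = mm.gam 2 * e ∧ e * mm.gam 5 = mm.gam 5 * e ∧ e * mm.gam 6 = a * e ∧ True :=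
  mm_ok.holds (φ := .all 2 40 [] (.imp (.and (.not (.one (.l 40))) (.and (.not (.eq (.l 40) (.l 1))) (.and (.not (.eq (.l 40) (.l 2))) (.and (.not (.eq (.l 40) (.mul (.l 1) (.l 2)))) (.and (.not (.eq (.l 40) (.l 5))) (.and (.not (.eq (.l 40) (.mul (.l 1) (.l 5)))) (.and (.not (.eq (.l 40) (.mul (.l 2) (.l 5)))) (.not (.eq (.l 40) (.mul (.mul (.l 1) (.l 2)) (.l 5))))))))))) (.ex 10 41 [(.l 2, .l 2), (.l 5, .l 5), (.l 6, .l 40)] (.tt)))) (by decide +kernel)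

theorem m_c2 : ∀ e ∈ genW mm.gam (mm.ws 0), e * mm.gam 1 = mm.gam 1 * e → e * mm.gam 2 = mm.gam 2 * e → e * mm.gam 5 = mm.gam 5 * e → e * mm.gam 6 = mm.gam 6 * e → e ∈ genW mm.gam (mm.ws 2) :=
  mm_ok.holds (φ := .all 0 40 [(.l 1, .l 1), (.l 2, .l 2), (.l 5, .l 5), (.l 6, .l 6)] (.mem 2 (.l 40))) (by decide +kernel)

theorem m_v : ∀ e ∈ genW mm.gam (mm.ws 10), e * mm.gam 7 * e⁻¹ * (mm.gam 7)⁻¹ ∈ genW mm.gam (mm.ws 2) → e * mm.gam 3 * e⁻¹ * (mm.gam 3)⁻¹ ∈ genW mm.gam (mm.ws 2) → e ∈ genW mm.gam (mm.ws 11) ∨ mm.gam 14 * e ∈ genW mm.gam (mm.ws 11) :=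
  mm_ok.holds (φ := .all 10 40 [] (.imp (.mem 2 (.mul (.mul (.mul (.l 40) (.l 7)) (.inv (.l 40))) (.inv (.l 7)))) (.imp (.mem 2 (.mul (.mul (.mul (.l 40) (.l 3)) (.inv (.l 40))) (.inv (.l 3)))) (.or (.mem 11 (.l 40)) (.mem 11 (.mul (.l 14) (.l 40))))))) (by decide +kernel)

theorem m_k15 : ∀ e ∈ genW mm.gam (mm.ws 15), e * mm.gam 1 = mm.gam 1 * e → e ∈ genW mm.gam (mm.ws 29) :=
  mm_ok.holds (φ := .all 15 40 [(.l 1, .l 1)] (.mem 29 (.l 40))) (by decide +kernel)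

theorem m_e : ∀ b ∈ genW mm.gam (mm.ws 10), ∃ e ∈ genW mm.gam (mm.ws 26), e * b ∈ genW mm.gam (mm.ws 13) :=
  mm_ok.holds (φ := .all 10 40 [] (.ex 26 41 [] (.mem 13 (.mul (.l 41) (.l 40))))) (by decide +kernel)

/-- double coset representatives -/
def ww : List W := [.l 0, .l 15, .l 16, .mul (.l 15) (.l 16), .mul (.l 16) (.l 15), .mul (.mul (.l 15) (.l 16)) (.l 15)]

/-- the elements of a subgroup of order 8 -/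
def ew : List W := [.l 0, .l 14, .mul (.mul (.l 16) (.l 14)) (.l 18), .mul (.mul (.mul (.l 15) (.l 16)) (.l 14)) (.inv (.mul (.l 15) (.l 16))), .mul (.l 14) (.mul (.mul (.l 16) (.l 14)) (.l 18)), .mul (.l 14) (.mul (.mul (.mul (.l 15) (.l 16)) (.l 14)) (.inv (.mul (.l 15) (.l 16)))), .mul (.mul (.mul (.l 16) (.l 14)) (.l 18)) (.mul (.mul (.mul (.l 15) (.l 16)) (.l 14)) (.inv (.mul (.l 15) (.l 16)))), .mul (.mul (.l 14) (.mul (.mul (.l 16) (.l 14)) (.l 18))) (.mul (.mul (.mul (.l 15) (.l 16)) (.l 14)) (.inv (.mul (.l 15) (.l 16))))]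

theorem m_dc : mm.eval (.all 13 40 [] (.ex 11 41 [] (.ex 11 42 [] (.lt 43 (.mul (.mul (.l 41) (.l 40)) (.l 42)) (orEq 43 ww))))) = true := by
  decide +kernel

theorem m_ew : mm.eval (.all 26 40 [] (orEq 40 ew)) = true := by
  decide +kernel

/-- double coset representatives -/
def reps : List W := ew.flatMap fun e => ww.map (.mul e)

/-- words -/
def wd1 : List W := [.l 0, .mul (.mul (.mul (.mul (.mul (.l 4) (.l 39)) (.l 4)) (.l 8)) (.l 39)) (.l 4), .l 0, .mul (.mul (.mul (.mul (.mul (.l 4) (.l 39)) (.l 3)) (.l 8)) (.inv (.l 39))) (.l 4), .mul (.mul (.mul (.mul (.mul (.l 4) (.inv (.l 39))) (.l 7)) (.inv (.l 8))) (.inv (.l 39))) (.inv (.l 39)), .mul (.mul (.mul (.mul (.mul (.l 4) (.inv (.l 8))) (.l 39)) (.inv (.l 8))) (.inv (.l 39))) (.l 7), .l 0, .mul (.mul (.mul (.mul (.mul (.l 4) (.l 7)) (.l 39)) (.l 8)) (.l 39))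 (.l 4), .l 0, .mul (.mul (.mul (.mul (.mul (.l 4) (.l 7)) (.l 39)) (.l 8)) (.inv (.l 39))) (.l 4), .mul (.mul (.mul (.mul (.l 4) (.inv (.l 39))) (.l 8)) (.l 39)) (.l 4), .mul (.mul (.mul (.mul (.l 39) (.l 3)) (.inv (.l 39))) (.l 3)) (.l 39), .l 0, .mul (.mul (.mul (.l 3) (.inv (.l 39))) (.l 7)) (.l 39), .l 0, .mul (.mul (.mul (.mul (.l 7) (.l 39)) (.l 3)) (.l 4)) (.inv (.l 39)), .mul (.mul (.mul (.mul (.mul (.l 4) (.l 7)) (.inv (.l 39))) (.l 8)) (.l 39)) (.l 4), .mul (.mul (.mul (.mul (.mul (.l 39) (.l 3)) (.l 39)) (.l 39)) (.l 3)) (.l 39), .mul (.mul (.mul (.l 3) (.l 39)) (.l 3)) (.l 39), .mul (.mul (.mul (.l 3) (.l 39)) (.l 7)) (.inv (.l 39)), .mul (.mul (.mul (.l 3) (.inv (.l 39))) (.l 4)) (.l 39), .mul (.mul (.mul (.mul (.mul (.l 4) (.l 39)) (.l 4)) (.l 8)) (.inv (.l 39))) (.l 4), .mul (.mul (.mul (.l 7) (.inv (.l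 39))) (.l 4)) (.l 39), .mul (.mul (.mul (.mul (.l 39) (.l 3)) (.inv (.l 39))) (.l 3)) (.l 39), .l 0, .mul (.mul (.mul (.l 3) (.inv (.l 39))) (.l 7)) (.l 39), .l 0, .mul (.mul (.mul (.mul (.l 7) (.l 39)) (.l 3)) (.l 4)) (.inv (.l 39)), .mul (.mul (.mul (.mul (.l 39) (.l 39)) (.inv (.l 8))) (.inv (.l 39))) (.inv (.l 39)), .mul (.mul (.mul (.mul (.mul (.l 3) (.inv (.l 8))) (.inv (.l 39))) (.inv (.l 8))) (.inv (.l 39))) (.l 7), .mul (.mul (.mul (.l 3) (.l 39)) (.l 3)) (.l 39), .mul (.mul (.mul (.l 3) (.l 39)) (.l 7)) (.inv (.l 39)), .mul (.mul (.mul (.l 3) (.inv (.l 39))) (.l 4)) (.l 39), .mul (.mul (.mul (.mul (.l 4) (.l 39)) (.l 8)) (.inv (.l 39))) (.l 4), .mul (.mul (.mul (.l 7) (.inv (.l 39))) (.l 4)) (.l 39), .mul (.mul (.mul (.mul (.mul (.l 4) (.l 7)) (.inv (.l 39))) (.inv (.l 8))) (.l 39)) (.l 8), .mul (.mul (.mul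 (.l 3) (.l 39)) (.l 3)) (.l 39), .mul (.mul (.mul (.l 3) (.l 39)) (.l 7)) (.l 39), .mul (.mul (.mul (.l 3) (.inv (.l 39))) (.l 4)) (.l 39), .mul (.mul (.mul (.mul (.l 7) (.l 39)) (.l 3)) (.l 4)) (.inv (.l 39)), .mul (.mul (.mul (.l 7) (.inv (.l 39))) (.l 4)) (.l 39), .mul (.mul (.mul (.mul (.mul (.l 3) (.l 7)) (.inv (.l 8))) (.l 39)) (.inv (.l 8))) (.l 39), .mul (.mul (.mul (.l 3) (.l 39)) (.l 3)) (.l 39), .mul (.mul (.mul (.l 3) (.l 39)) (.l 7)) (.l 39), .mul (.mul (.mul (.l 3) (.inv (.l 39))) (.l 4)) (.l 39), .mul (.mul (.mul (.mul (.l 7) (.l 39)) (.l 3)) (.l 4)) (.inv (.l 39)), .mul (.mul (.mul (.l 7) (.inv (.l 39))) (.l 4)) (.l 39), .mul (.mul (.mul (.mul (.mul (.l 39) (.l 3)) (.l 39)) (.l 39)) (.l 3)) (.l 39)]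

/-- words -/
def wd2 : List W := [.l 0, .l 0, .l 39, .mul (.mul (.mul (.inv (.l 39)) (.l 3)) (.l 39)) (.l 7), .mul (.mul (.mul (.l 7) (.l 39)) (.l 3)) (.inv (.l 39)), .mul (.mul (.mul (.mul (.l 3) (.l 39)) (.l 4)) (.l 39)) (.l 7), .l 39, .mul (.mul (.l 10) (.l 39)) (.inv (.l 10)), .mul (.mul (.mul (.inv (.l 39)) (.l 7)) (.l 39)) (.l 7), .mul (.mul (.mul (.inv (.l 39)) (.l 3)) (.l 39)) (.l 7), .mul (.mul (.mul (.mul (.l 4) (.l 39)) (.l 3)) (.inv (.l 39))) (.l 7), .mul (.mul (.mul (.mul (.l 7) (.l 39)) (.l 3)) (.l 4)) (.inv (.l 39)), .mul (.mul (.mul (.l 7) (.l 39)) (.l 7)) (.l 39), .mul (.mul (.mul (.l 3) (.inv (.l 39))) (.l 7)) (.l 39), .mul (.mul (.mul (.l 7) (.l 39)) (.l 7)) (.inv (.l 39)), .mul (.mul (.mul (.inv (.l 39)) (.l 3)) (.l 39)) (.l 7), .mul (.mul (.mul (.l 7) (.l 39)) (.l 3)) (.inv (.l 39)), .mul (.mul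 (.mul (.mul (.l 7) (.l 39)) (.l 3)) (.l 4)) (.inv (.l 39)), .mul (.mul (.mul (.l 3) (.l 39)) (.l 3)) (.l 39), .mul (.mul (.mul (.l 3) (.l 39)) (.l 7)) (.inv (.l 39)), .mul (.mul (.mul (.l 3) (.inv (.l 39))) (.l 4)) (.l 39), .mul (.mul (.mul (.mul (.l 4) (.l 7)) (.inv (.l 39))) (.l 3)) (.l 39), .mul (.mul (.mul (.l 7) (.inv (.l 39))) (.l 4)) (.l 39), .mul (.mul (.mul (.mul (.l 39) (.l 3)) (.inv (.l 39))) (.l 3)) (.l 39), .mul (.mul (.mul (.l 7) (.l 39)) (.l 7)) (.l 39), .mul (.mul (.mul (.l 3) (.inv (.l 39))) (.l 7)) (.l 39), .mul (.l 4) (.inv (.l 39)), .mul (.mul (.mul (.inv (.l 39)) (.l 3)) (.l 39)) (.l 7), .mul (.mul (.mul (.mul (.l 4) (.l 39)) (.l 3)) (.inv (.l 39))) (.l 7), .mul (.mul (.mul (.mul (.l 3) (.l 39)) (.l 4)) (.l 39)) (.l 7), .mul (.mul (.mul (.l 3) (.l 39)) (.l 3)) (.l 39), .mul (.mul (.mul (.l 3) (.l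 39)) (.l 7)) (.inv (.l 39)), .mul (.inv (.l 39)) (.inv (.l 39)), .mul (.mul (.mul (.mul (.l 3) (.inv (.l 39))) (.inv (.l 10))) (.l 3)) (.inv (.l 10)), .mul (.mul (.mul (.l 7) (.l 39)) (.l 3)) (.inv (.l 39)), .mul (.mul (.mul (.mul (.l 3) (.l 7)) (.inv (.l 39))) (.l 4)) (.inv (.l 39)), .mul (.mul (.mul (.l 3) (.l 39)) (.l 3)) (.l 39), .mul (.mul (.mul (.l 3) (.l 39)) (.l 7)) (.l 39), .mul (.mul (.l 4) (.l 39)) (.l 39), .mul (.mul (.mul (.mul (.l 4) (.l 7)) (.inv (.l 39))) (.l 3)) (.l 39), .mul (.mul (.mul (.l 7) (.inv (.l 39))) (.l 4)) (.l 39), .mul (.mul (.mul (.mul (.l 3) (.l 7)) (.inv (.l 39))) (.l 4)) (.inv (.l 39)), .mul (.mul (.mul (.l 3) (.l 39)) (.l 3)) (.l 39), .mul (.mul (.mul (.l 3) (.l 39)) (.l 7)) (.l 39), .mul (.mul (.mul (.l 3) (.l 39)) (.l 4)) (.l 39), .mul (.mul (.mul (.mul (.l 4) (.l 7)) (.inv (.l 39)))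 (.l 3)) (.l 39), .mul (.mul (.mul (.l 7) (.l 39)) (.l 3)) (.inv (.l 39)), .mul (.mul (.mul (.mul (.l 8) (.l 39)) (.inv (.l 8))) (.inv (.l 39))) (.l 10)]

/-- words -/
def wd3 : List W := [.l 0, .l 0, .l 0, .l 0, .l 0, .l 0, .l 39, .mul (.mul (.l 10) (.l 39)) (.inv (.l 10)), .mul (.mul (.l 8) (.l 11)) (.inv (.l 39)), .mul (.mul (.mul (.mul (.l 8) (.l 10)) (.l 11)) (.inv (.l 39))) (.inv (.l 10)), .mul (.mul (.mul (.mul (.mul (.l 3) (.inv (.l 10))) (.l 11)) (.l 39)) (.l 10)) (.l 39), .mul (.mul (.mul (.mul (.l 39) (.l 3)) (.inv (.l 39))) (.l 3)) (.l 39), .mul (.mul (.mul (.l 7) (.l 39)) (.l 7)) (.l 39), .mul (.mul (.mul (.l 3) (.inv (.l 39))) (.l 7)) (.l 39), .mul (.mul (.inv (.l 8)) (.inv (.l 11))) (.l 39), .mul (.mul (.mul (.mul (.l 7) (.l 39)) (.l 3)) (.l 4)) (.inv (.l 39)), .mul (.mul (.mul (.mul (.inv (.l 8)) (.l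 10)) (.inv (.l 11))) (.l 39)) (.inv (.l 10)), .mul (.mul (.mul (.mul (.mul (.l 4) (.l 11)) (.l 39)) (.l 39)) (.l 39)) (.inv (.l 11)), .mul (.mul (.mul (.l 3) (.l 39)) (.l 3)) (.l 39), .mul (.mul (.mul (.l 3) (.l 39)) (.l 7)) (.inv (.l 39)), .mul (.mul (.mul (.l 3) (.inv (.l 39))) (.l 4)) (.l 39), .mul (.mul (.mul (.mul (.mul (.l 3) (.l 39)) (.l 7)) (.inv (.l 8))) (.inv (.l 11))) (.inv (.l 39)), .mul (.mul (.mul (.l 7) (.inv (.l 39))) (.l 4)) (.l 39), .mul (.mul (.mul (.mul (.l 39) (.l 3)) (.inv (.l 39))) (.l 3)) (.l 39), .mul (.mul (.mul (.l 4) (.l 11)) (.l 39)) (.inv (.l 11)), .mul (.mul (.mul (.l 3) (.inv (.l 39))) (.l 7)) (.l 39), .mul (.mul (.mul (.l 39) (.l 8)) (.l 11)) (.l 39), .mul (.mul (.mul (.mul (.l 7) (.l 39)) (.l 3)) (.l 4)) (.inv (.l 39)), .mul (.mul (.mul (.mul (.mul (.l 3) (.inv (.l 39))) (.l 7)) (.l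 8)) (.l 11)) (.l 39), .mul (.mul (.mul (.mul (.mul (.l 4) (.l 11)) (.l 39)) (.l 39)) (.l 39)) (.inv (.l 11)), .mul (.mul (.mul (.l 3) (.l 39)) (.l 3)) (.l 39), .mul (.mul (.mul (.l 3) (.l 39)) (.l 7)) (.inv (.l 39)), .mul (.mul (.mul (.l 3) (.inv (.l 39))) (.l 4)) (.l 39), .mul (.mul (.mul (.mul (.mul (.l 3) (.l 39)) (.l 7)) (.inv (.l 8))) (.inv (.l 11))) (.inv (.l 39)), .mul (.mul (.mul (.l 7) (.inv (.l 39))) (.l 4)) (.l 39), .mul (.mul (.mul (.mul (.mul (.l 3) (.inv (.l 11))) (.inv (.l 39))) (.l 10)) (.inv (.l 11))) (.l 39), .mul (.mul (.mul (.l 3) (.l 39)) (.l 3)) (.l 39), .mul (.mul (.mul (.l 3) (.l 39)) (.l 7)) (.l 39), .mul (.mul (.mul (.l 3) (.inv (.l 39))) (.l 4)) (.l 39), .mul (.mul (.mul (.mul (.l 7) (.l 39)) (.l 3)) (.l 4)) (.inv (.l 39)), .mul (.mul (.mul (.l 7) (.inv (.l 39))) (.l 4)) (.l 39), .mul (.mul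 (.mul (.mul (.mul (.l 4) (.l 11)) (.l 39)) (.l 39)) (.l 39)) (.inv (.l 11)), .mul (.mul (.mul (.l 3) (.l 39)) (.l 3)) (.l 39), .mul (.mul (.mul (.l 3) (.l 39)) (.l 7)) (.l 39), .mul (.mul (.mul (.l 3) (.inv (.l 39))) (.l 4)) (.l 39), .mul (.mul (.mul (.mul (.l 7) (.l 39)) (.l 3)) (.l 4)) (.inv (.l 39)), .mul (.mul (.mul (.l 7) (.inv (.l 39))) (.l 4)) (.l 39), .mul (.mul (.mul (.mul (.mul (.l 4) (.l 11)) (.l 39)) (.l 39)) (.l 39)) (.inv (.l 11))]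

/-- words -/
def wd4 : List W := [.l 0, .l 0, .mul (.mul (.mul (.mul (.l 3) (.l 8)) (.l 12)) (.inv (.l 39))) (.l 12), .mul (.mul (.mul (.mul (.mul (.l 3) (.l 10)) (.l 39)) (.l 10)) (.l 12)) (.inv (.l 39)), .mul (.mul (.mul (.mul (.mul (.l 3) (.l 12)) (.inv (.l 39))) (.l 12)) (.inv (.l 10))) (.l 39), .mul (.mul (.mul (.mul (.mul (.l 3) (.l 12)) (.l 39)) (.inv (.l 10))) (.l 12)) (.inv (.l 39)), .l 39, .mul (.mul (.l 10) (.l 39)) (.inv (.l 10)), .mul (.mul (.l 8) (.inv (.l 39))) (.inv (.l 12)), .mul (.mul (.mul (.mul (.l 8) (.inv (.l 10))) (.inv (.l 39))) (.inv (.l 10))) (.l 12), .mul (.mul (.mul (.mul (.mul (.l 3) (.l 12)) (.inv (.l 10))) (.inv (.l 39))) (.inv (.l 10))) (.inv (.l 39)), .mul (.mul (.mul (.mul (.l 39) (.l 3)) (.inv (.l 39))) (.l 3)) (.l 39), .mul (.mul (.mul (.l 7) (.l 39)) (.l 7)) (.l 39), .mul (.mul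 (.mul (.l 3) (.inv (.l 39))) (.l 7)) (.l 39), .mul (.mul (.inv (.l 8)) (.l 39)) (.l 12), .mul (.mul (.mul (.mul (.l 7) (.l 39)) (.l 3)) (.l 4)) (.inv (.l 39)), .mul (.mul (.mul (.mul (.mul (.l 3) (.inv (.l 10))) (.inv (.l 39))) (.inv (.l 10))) (.inv (.l 12))) (.l 39), .mul (.mul (.mul (.mul (.mul (.l 4) (.inv (.l 12))) (.l 39)) (.l 39)) (.l 39)) (.l 12), .mul (.mul (.mul (.l 3) (.l 39)) (.l 3)) (.l 39), .mul (.mul (.mul (.l 3) (.l 39)) (.l 7)) (.inv (.l 39)), .mul (.mul (.mul (.l 3) (.inv (.l 39))) (.l 4)) (.l 39), .mul (.mul (.mul (.mul (.mul (.l 8) (.l 10)) (.l 4)) (.inv (.l 12))) (.inv (.l 39))) (.inv (.l 10)), .mul (.mul (.mul (.l 7) (.inv (.l 39))) (.l 4)) (.l 39), .mul (.mul (.mul (.mul (.l 39) (.l 3)) (.inv (.l 39))) (.l 3)) (.l 39), .mul (.mul (.mul (.l 4) (.inv (.l 12))) (.l 39)) (.l 12), .mul (.mul (.mul (.l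 3) (.inv (.l 39))) (.l 7)) (.l 39), .l 0, .mul (.mul (.mul (.mul (.l 7) (.l 39)) (.l 3)) (.l 4)) (.inv (.l 39)), .l 0, .mul (.mul (.mul (.mul (.mul (.l 4) (.inv (.l 12))) (.l 39)) (.l 39)) (.l 39)) (.l 12), .mul (.mul (.mul (.l 3) (.l 39)) (.l 3)) (.l 39), .mul (.mul (.mul (.l 3) (.l 39)) (.l 7)) (.inv (.l 39)), .mul (.mul (.mul (.l 3) (.inv (.l 39))) (.l 4)) (.l 39), .l 0, .mul (.mul (.mul (.l 7) (.inv (.l 39))) (.l 4)) (.l 39), .l 0, .mul (.mul (.mul (.l 3) (.l 39)) (.l 3)) (.l 39), .mul (.mul (.mul (.l 3) (.l 39)) (.l 7)) (.l 39), .mul (.mul (.mul (.l 3) (.inv (.l 39))) (.l 4)) (.l 39), .mul (.mul (.mul (.mul (.l 7) (.l 39)) (.l 3)) (.l 4)) (.inv (.l 39)), .mul (.mul (.mul (.l 7) (.inv (.l 39))) (.l 4)) (.l 39), .mul (.mul (.mul (.mul (.mul (.l 4) (.inv (.l 12))) (.l 39)) (.l 39)) (.l 39)) (.l 12), .mul (.mul (.mul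 (.l 3) (.l 39)) (.l 3)) (.l 39), .mul (.mul (.mul (.l 3) (.l 39)) (.l 7)) (.l 39), .mul (.mul (.mul (.l 3) (.inv (.l 39))) (.l 4)) (.l 39), .mul (.mul (.mul (.mul (.l 7) (.l 39)) (.l 3)) (.l 4)) (.inv (.l 39)), .mul (.mul (.mul (.l 7) (.inv (.l 39))) (.l 4)) (.l 39), .mul (.mul (.mul (.mul (.mul (.l 4) (.inv (.l 12))) (.l 39)) (.l 39)) (.l 39)) (.l 12)]


end Cfsg.Lib.M22R
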